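import Mathlib
import Cfsg.Agent.Lib.Compute.OutFinal

/-!
# Outer automorphism groups of permutation groups of known order: the case of a nonsquare

Here `ρ` induces on `⟨π⟩` only a subgroup of index two of the automorphism group, and the outer automorphism `τ` sends
`π` to `π ^ s`, where `π` is not conjugate to `π ^ s` in the group.
-/

set_option autoImplicit false

namespace Cfsg.Agent.Lib.Sporadic.HeOut.Abs

open Cfsg Cfsg.Agent.Lib.Compute.PermCert Cfsg.Agent.Lib.Compute.OutChain Cfsg.Agent.Lib.Compute.OutFinal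
open Cfsg.Agent.Lib.Compute.OutCert Cfsg.Agent.Lib.Compute.PermOut

section Group

variable {G : Type*} [Group G] {H : Subgroup G} {F : G → G} {π ρ τ : G} {p r q s' : ℕ}

/-- Sylow's theorem, when `k r ^ j` can be made `1` or `s'`. -/
theorem step_sylow_pow [Finite H] [Fact p.Prime] (hF : PHom H F) (hπ : π ∈ H) (hρ : ρ ∈ H)
    (hp2 : ¬ p ^ 2 ∣ Nat.card H) (hπp : π ^ p = 1) (hπ1 : π ≠ 1) (hρπ : ρ * π = π ^ r * ρ)
    (hexp : ∀ k, ¬ p ∣ k → ∃ j, (k * r ^ j) % p = 1 ∨ (k * r ^ j) % p = s') :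
    ∃ h ∈ H, ∃ e, (e = 1 ∨ e = s') ∧ h * F π * h⁻¹ = π ^ e := by
  have hp : p.Prime := Fact.out
  let a : H := ⟨π, hπ⟩
  let x : H := ⟨F π, hF.mem π hπ⟩
  have hapow : a ^ p = 1 := Subtype.ext hπp
  have ha1 : a ≠ 1 := fun h => hπ1 (congrArg Subtype.val h)
  have hxpow : x ^ p = 1 := by
    apply Subtype.ext
    show F π ^ p = 1
    rw [← hF.map_pow hπ, hπp, hF.map_one]
  have hx1 : x ≠ 1 := fun h => hπ1 (hF.inj π hπ (congrArg Subtype.val h))
  have hoa : orderOf a = p := orderOf_eq_prime hapow ha1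
  have hox : orderOf x = p := orderOf_eq_prime hxpow hx1
  obtain ⟨g, k, hgk⟩ := exists_conj_eq_pow hp2 hoa hox
  have hgk' : (g : G) * F π * (g : G)⁻¹ = π ^ k := congrArg Subtype.val hgk
  have hk : ¬ p ∣ k := by
    rintro ⟨t, rfl⟩
    apply hx1
    have h1 : a ^ (p * t) = 1 := by rw [pow_mul, hapow, one_pow]
    rw [h1] at hgk
    have : x = g⁻¹ * (g * x * g⁻¹) * g := by group
    rw [this, hgk]
    group
  obtain ⟨j, hj⟩ := hexp k hk
  refine ⟨ρ ^ j * g, H.mul_mem (H.pow_mem hρ j) g.2, (k * r ^ j) % p, hj, ?_⟩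
  rw [← pow_eq_pow_mod_of hπp, ← rho_pow_conj hρπ j k, ← hgk']
  group

/-- Every automorphism is inner, up to the conjugation by `τ`. -/
theorem inner_or_twist_pow [Finite H] [Fact p.Prime] (hτH : ∀ x ∈ H, τ * x * τ⁻¹ ∈ H)
    (hτπ : τ * π ^ s' * τ⁻¹ = π)
    (hπ : π ∈ H) (hρ : ρ ∈ H) (hp2 : ¬ p ^ 2 ∣ Nat.card H)
    (hπp : π ^ p = 1) (hπ1 : π ≠ 1) (hρπ : ρ * π = π ^ r * ρ) (hρq : ρ ^ q = 1)
    (hexp : ∀ k, ¬ p ∣ k → ∃ j, (k * r ^ j) % p = 1 ∨ (k * r ^ j) % p = s')
    (hconj : ∀ x ∈ H, x * π = π ^ r * x → x ^ q = 1 → ∃ c : ℕ, x = π ^ c * ρ * (π ^ c)⁻¹)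
    (hfin : ∀ F', PHom H F' → F' π = π → F' ρ = ρ → IsInnerF H F')
    (hF : PHom H F) : IsInnerF H F ∨ IsInnerF H (conjF τ F) := by
  obtain ⟨h1, hh1, e, he, h1F⟩ := step_sylow_pow hF hπ hρ hp2 hπp hπ1 hρπ hexp
  have hfinish : ∀ F', PHom H F' → F' π = π → IsInnerF H F' := by
    intro F' hF' hπ'
    obtain ⟨h2, hh2, h2π, h2ρ⟩ := step_rho_q hF' hπ hρ hπp hρπ hρq hconj hπ'
    have hF2 := hF'.conj (conj_mem_of_mem hh2)
    exact IsInnerF.of_conj hh2 (hfin _ hF2 h2π h2ρ)
  rcases he with rfl | rfl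
  · left
    refine IsInnerF.of_conj hh1 (hfinish _ (hF.conj (conj_mem_of_mem hh1)) ?_)
    rw [conjF_apply, h1F, pow_one]
  · right
    have hk' : τ * h1 * τ⁻¹ ∈ H := hτH _ hh1
    refine IsInnerF.of_conj hk' (hfinish _ ((hF.conj hτH).conj (conj_mem_of_mem hk')) ?_)
    have : conjF (τ * h1 * τ⁻¹) (conjF τ F) π = τ * (h1 * F π * h1⁻¹) * τ⁻¹ := by
      simp only [conjF]
      group
    rw [this, h1F, hτπ]

theorem hexpS_of_check {p r s : ℕ} (hp : 0 < p)
    (h : ∀ k, k < p → k ≠ 0 → ∃ j, j < p ∧ ((k * r ^ j) % p = 1 ∨ (k * r ^ j) % p = s)) :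
    ∀ k, ¬ p ∣ k → ∃ j, (k * r ^ j) % p = 1 ∨ (k * r ^ j) % p = s := by
  intro k hk
  have h0 : k % p ≠ 0 := fun h0 => hk (Nat.dvd_of_mod_eq_zero h0)
  obtain ⟨j, -, hj⟩ := h (k % p) (Nat.mod_lt _ hp) h0
  refine ⟨j, ?_⟩
  rw [Nat.mod_mul_mod] at hj
  exact hj

end Group

section Main

variable {w m N tw tm d : Nat} {K : Subgroup (Equiv.Perm (Fin N))}

/-- The outer automorphism group has order two, when the outer automorphism sends `π` to `π ^ s`, where `π` is not
conjugate to `π ^ s` in `K`, and the powers of the action of `ρ` on `⟨π⟩` reach the other classes. -/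
theorem card_out_two_pow {pe re ye te ze : Elt} {p r q s s' zk : Nat} [Fact p.Prime] {lrA lrB : List (Lv × Rule)}
    {kills : List (List Nat × Nat)}
    (hA : ChainFor w m N tw tm K (lrA.map Prod.fst)) (hB : ChainFor w m N tw tm K (lrB.map Prod.fst)) (hd : N ≤ 2 ^ d)
    (hgen : hdG (lrB.map Prod.fst) = [pe, re, ye])
    (vP : validB w m N pe = true) (vR : validB w m N re = true) (vY : validB w m N ye = true)
    (vT : validB w m N te = true)
    (hp2 : ¬ p ^ 2 ∣ Nat.card K)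
    (hpow : permOf w m N pe ^ p = 1) (hne : permOf w m N pe ≠ 1)
    (hrel : permOf w m N re * permOf w m N pe = permOf w m N pe ^ r * permOf w m N re)
    (hRq : permOf w m N re ^ q = 1)
    (hexp : ∀ k, ¬ p ∣ k → ∃ j, (k * r ^ j) % p = 1 ∨ (k * r ^ j) % p = s')
    (hτP : permOf w m N te * permOf w m N pe = permOf w m N pe ^ s * permOf w m N te)
    (hss : (s * s') % p = 1)
    (hτP' : (permOf w m N te)⁻¹ * permOf w m N pe * permOf w m N te ∈ K)
    (hτR : permOf w m N te * permOf w m N re * (permOf w m N te)⁻¹ ∈ K)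
    (hτR' : (permOf w m N te)⁻¹ * permOf w m N re * permOf w m N te ∈ K)
    (hτY : permOf w m N te * permOf w m N ye * (permOf w m N te)⁻¹ ∈ K)
    (hτY' : (permOf w m N te)⁻¹ * permOf w m N ye * permOf w m N te ∈ K)
    (vZ : validB w m N ze = true) (hZ : permOf w m N ze = permOf w m N re ^ zk)
    (hyZ : permOf w m N ye * permOf w m N ze = permOf w m N ze * permOf w m N ye)
    (hRA : rulesOK N (gt w m pe) [] lrA = true)
    (hsA : searchF w m N tw tm d (iterF (gt w m pe) r)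
      (conjLeaf w m pe re p (baseL (lrA.map Prod.fst))) lrA id id = true)
    (hsI : searchF w m N tw tm d (iterF (gt w m pe) s)
      (notSol N d (gt w m pe) (iterF (gt w m pe) s)) lrA id id = true)
    (hRB : rulesOK N (gt w m ze) [] lrB = true)
    (hsB : searchF w m N tw tm d (gt w m ze) (finLeafT w m pe re ye [] kills (baseL (lrB.map Prod.fst))) lrB id id = true)
    (hk : killsOK N d (gt w m pe) (gt w m re) (gt w m ye) kills = true) :
    Nat.card (Out K) = 2 := by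
  set P := permOf w m N pe with hP
  set R := permOf w m N re with hRR
  set Y := permOf w m N ye with hY
  set T := permOf w m N te with hT
  have hgK := hB.gen_eq
  rw [hgen] at hgK
  have mP : P ∈ K := hgK ▸ permOf_mem_genGroup (by simp)
  have mR : R ∈ K := hgK ▸ permOf_mem_genGroup (by simp)
  have mY : Y ∈ K := hgK ▸ permOf_mem_genGroup (by simp)
  have hτP2 : T * P * T⁻¹ = P ^ s := by
    rw [hτP]; group
  have hτP1 : T * P ^ s' * T⁻¹ = P := by
    have h1 : T * P ^ s' * T⁻¹ = (T * P * T⁻¹) ^ s' := by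
      rw [conj_pow]
    rw [h1, hτP2, ← pow_mul, pow_eq_pow_mod_of hpow, hss, pow_one]
  have hnorm : ∀ Tt : Equiv.Perm (Fin N), Tt * P * Tt⁻¹ ∈ K → Tt * R * Tt⁻¹ ∈ K → Tt * Y * Tt⁻¹ ∈ K →
      ∀ x ∈ K, Tt * x * Tt⁻¹ ∈ K := by
    intro Tt h1 h2 h3
    have hle : K ≤ K.comap (MulAut.conj Tt).toMonoidHom := by
      conv_lhs => rw [← hgK]
      refine (Subgroup.closure_le _).mpr ?_
      rintro _ ⟨e, he, rfl⟩
      simp only [List.mem_cons, List.not_mem_nil, or_false] at he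
      show (MulAut.conj Tt).toMonoidHom _ ∈ K
      simp only [MulEquiv.toMonoidHom_eq_coe, MonoidHom.coe_coe, MulAut.conj_apply]
      rcases he with rfl | rfl | rfl
      · exact h1
      · exact h2
      · exact h3
    intro x hx
    have := hle hx
    simpa [MulAut.conj_apply] using this
  have hτK : ∀ x ∈ K, T * x * T⁻¹ ∈ K := hnorm T (by rw [hτP2]; exact K.pow_mem mP s) hτR hτY
  have hτK' : ∀ x ∈ K, T⁻¹ * x * T ∈ K := by
    have := hnorm T⁻¹ (by simpa using hτP') (by simpa using hτR') (by simpa using hτY')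
    simpa using this
  have hconj := hconj_of_search hA hd vP vR mP mR hpow hRA hsA
  have hfnP : ∀ i : Fin N, gt w m pe i = P i := gt_eq vP
  have hiter : ∀ i : Fin N, iterF (gt w m pe) s i = (P ^ s) i := fun i => by
    rw [iterF_eq, iter_eq hfnP]
  refine card_out_eq_two (conjAut T hτK hτK') ?_ fun φ => ?_
  · -- the automorphism is not inner
    rintro ⟨h, hh⟩
    have hk : (h : Equiv.Perm (Fin N)) * P * (h : Equiv.Perm (Fin N))⁻¹ = T * P * T⁻¹ := by
      have := congrArg (fun ψ : MulAut K => ((ψ ⟨P, mP⟩ : K) : Equiv.Perm (Fin N))) hh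
      simpa [MulAut.conj_apply, conjAut] using this
    rw [hτP2] at hk
    have h1 : (h : Equiv.Perm (Fin N)) * P = P ^ s * h := by
      rw [← hk]; group
    have h2 : ∀ a, (h : Equiv.Perm (Fin N)) (P a) = (P ^ s) ((h : Equiv.Perm (Fin N)) a) := fun a => by
      have := congrArg (fun g : Equiv.Perm (Fin N) => g a) h1
      simpa [Equiv.Perm.mul_apply] using this
    obtain ⟨vf, vi, hrep, hleaf⟩ := search_use hA hd (X := P) (X' := P ^ s) (x := gt w m pe)
      (x' := iterF (gt w m pe) s) hfnP hiter hRA hsI h h.2 h2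
    rw [notSol_false hd hfnP hiter hrep h2] at hleaf
    exact absurd hleaf (by decide)
  · have hfin : ∀ F', PHom K F' → F' P = P → F' R = R → IsInnerF K F' :=
      fun F' hF' h1 h2 => hfinT_of_search hB hd hgen vP vR vY (ts := []) (by simp) vZ hZ hyZ hRB hsB hk hF' h1 h2
    rcases inner_or_twist_pow (π := P) (ρ := R) (τ := T) (p := p) (r := r) (q := q) (s' := s') hτK hτP1 mP mR hp2 hpow hne
        hrel hRq hexp (fun x hx h _ => hconj x hx h) hfin (pHom_ofAut φ) with h | h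
    · exact Or.inl (mem_inn_of_isInnerF h)
    · exact Or.inr (mem_inn_of_conj T hτK hτK' h)

end Main

end Cfsg.Agent.Lib.Sporadic.HeOut.Abs
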