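import Mathlib
import Cfsg.Agent.Lib.Sporadic.HeOut.Abs
import Cfsg.Agent.Lib.Sporadic.HeOut.Check
import Cfsg.Agent.S1695

/-! The outer automorphism group of the group of Held. -/

set_option autoImplicit false

namespace Cfsg.Agent.Lib.Sporadic.HeOut.Main

open Cfsg Cfsg.Agent.Lib.Compute.PermCert Cfsg.Agent.Lib.Compute.OutChain Cfsg.Agent.Lib.Compute.OutFinal
open Cfsg.Agent.Lib.Compute.ToddCoxeterCore Cfsg.Agent.Lib.Compute.ToddCoxeterPresented
  Cfsg.Agent.Lib.Compute.TCFast Cfsg.Agent.Lib.Compute.TCChain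
open Cfsg.Agent.Lib.Compute.TC Cfsg.Agent.Lib.Compute.PermOut
open Cfsg.Agent.Lib.Sporadic.HeOut.Abs Cfsg.Agent.Lib.Sporadic.HeOut.Data Cfsg.Agent.Lib.Sporadic.HeOut.Check

/-- The homomorphism from the presented group. -/
noncomputable abbrev phi := phiG He1.hR He1.small He1.big He1.hgens

/-- The group as a permutation group. -/
noncomputable def K : Subgroup (Equiv.Perm (Fin 2058)) := phi.range

theorem card_K : Nat.card K = 4030387200 := by
  have h1 : Nat.card K = Nat.card (PresentedGroup He1.RR) :=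
    (Nat.card_congr (MonoidHom.ofInjective S1695.inj.1).toEquiv).symm
  rw [h1, S1695.inj.2]

theorem out_eq : Nat.card (Out Cfsg.Spor.He) = Nat.card (Out K) :=
  card_out_congr (A := PresentedGroup He1.RR) (MonoidHom.ofInjective S1695.inj.1)

theorem hd : 2058 ≤ 2 ^ 12 := by norm_num

/-- The values of the generators. -/
noncomputable def ev (j i : Nat) : Nat := ev0 He1.cfg j true i

theorem ev_spec (j : Nat) : ∃ x ∈ K, ∀ i : Fin 2058, ev j i = x i :=
  ⟨phi (elG He1.D He1.RR j), ⟨_, rfl⟩, fun i =>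
    (ev0_ok He1.hR He1.small He1.big He1.hgens j i).1⟩

theorem gens_ok : gensOK 12 4095 2058 12 ev 0 lvA0.gens = true := by decide +kernel

theorem hA : ChainFor 12 4095 2058 24 16777215 K (lrlvA.map Prod.fst) := by
  refine ChainFor.of_fast hd chainA_ok ?_ (by rw [ordA, card_K])
  have hc := (chkChainF_eq hd (tw := 24) (tm := 16777215) (w := 12) (m := 4095) (ls := lrlvA.map Prod.fst)).symm.trans chainA_ok
  exact gens_le hd ev_spec (hdG_valid hc) gens_ok

theorem mP : permOf 12 4095 2058 piE ∈ K := hA.mem_of_sift hd (gt_eq vP) siftP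
theorem mR : permOf 12 4095 2058 rhoE ∈ K := hA.mem_of_sift hd (gt_eq vR) siftR
theorem mY : permOf 12 4095 2058 yE ∈ K := hA.mem_of_sift hd (gt_eq vY) siftY

theorem hB : ChainFor 12 4095 2058 24 16777215 K (lrlvB.map Prod.fst) := by
  refine ChainFor.of_fast hd chainB_ok ?_ (by rw [ordB, card_K])
  refine (Subgroup.closure_le _).mpr ?_
  rintro _ ⟨e, he, rfl⟩
  have he' : e ∈ [piE, rhoE, yE] := he
  simp only [List.mem_cons, List.not_mem_nil, or_false] at he'
  rcases he' with rfl | rfl | rfl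
  · exact mP
  · exact mR
  · exact mY

instance fact17 : Fact (Nat.Prime 17) := ⟨by norm_num⟩

/-- The outer automorphism group of the group of Held. -/
theorem card_out_He : Nat.card (Out Cfsg.Spor.He) = 2 := by
  rw [out_eq]
  refine card_out_two_pow (p := 17) (r := 2) (q := 8) (s := 3) (s' := 6) (zk := 2) (pe := piE) (re := rhoE) (ye := yE)
    (te := tE) (ze := zE) (kills := kills) hA hB hd rfl vP vR vY vT ?_ ?_ ?_ ?_ ?_ ?_ ?_ ?_ ?_ ?_ ?_ ?_ ?_ vZ ?_ ?_ ruA sA sI ruB sB kF
  · rw [card_K]; norm_num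
  · exact pow_of_check vP hd powP
  · exact ne_one_of_point vP (i := 0) (by norm_num) neP
  · exact rel_of_check vP vR hd relR
  · exact pow_of_check vR hd powR
  · exact hexpS_of_check (by norm_num) (by decide)
  · exact rel_of_check vP vT hd relT
  · norm_num
  · exact hA.mem_of_sift hd (conj_rep' vT vP) siftTP'
  · exact hA.mem_of_sift hd (conj_rep vT vR) siftTR
  · exact hA.mem_of_sift hd (conj_rep' vT vR) siftTR'
  · exact hA.mem_of_sift hd (conj_rep vT vY) siftTY
  · exact hA.mem_of_sift hd (conj_rep' vT vY) siftTY'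
  · exact eq_pow_of_check vZ vR hd eqZ
  · exact comm_of_check vY vZ hd commYZ

end Cfsg.Agent.Lib.Sporadic.HeOut.Main
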